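import Mathlib.RingTheory.Length
import Mathlib.Algebra.Module.PID
import Mathlib.RingTheory.DiscreteValuationRing.Basic
import Mathlib.RingTheory.Nakayama
import Mathlib.LinearAlgebra.Pi
import Mathlib.Tactic

/-!
# Glued Frobenius data and direct summands (Fontaine--Laffaille modules)
-/

set_option autoImplicit false

universe u v

open Submodule

namespace K955.Glued

section Length

variable {W : Type u} [CommRing W] {M M' : Type v} [AddCommGroup M] [AddCommGroup M']
  [Module W M] [Module W M']

/-- A semilinear bijection along a surjective ring endomorphism preserves the length. -/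
lemma length_eq_of_semilinear (σ : W →+* W) [RingHomSurjective σ] (f : M →ₛₗ[σ] M')
    (hf : Function.Bijective f) : Module.length W M = Module.length W M' := by
  have h := Order.krullDim_eq_of_orderIso (Submodule.orderIsoMapComapOfBijective f hf)
  rw [← Module.coe_length, ← Module.coe_length] at h
  exact_mod_cast h

end Length

section Pure

variable {W : Type u} [CommRing W] [IsDomain W] [IsPrincipalIdealRing W]
  {N : Type v} [AddCommGroup N] [Module W N] [Module.Finite W N]

/-- A pure submodule of a finitely generated `π`-power torsion module over a PID is a direct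
summand. -/
theorem exists_isCompl_of_pure {π : W} (hπ : Irreducible π)
    (htors : ∀ x : N, ∃ n : ℕ, π ^ n • x = 0) (N' : Submodule W N)
    (hpure : ∀ (j : ℕ) (x : N), π ^ j • x ∈ N' → ∃ y ∈ N', π ^ j • x = π ^ j • y) :
    ∃ Q : Submodule W N, IsCompl N' Q := by
  classical
  have ht : Module.IsTorsion' (N ⧸ N') (Submonoid.powers π) := by
    rw [Submodule.isTorsion'_powers_iff]
    intro x
    obtain ⟨x, rfl⟩ := N'.mkQ_surjective x
    obtain ⟨n, hn⟩ := htors x
    exact ⟨n, by rw [← map_smul, hn, map_zero]⟩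
  obtain ⟨d, k, ⟨e⟩⟩ := Module.torsion_by_prime_power_decomposition hπ ht
  -- lift the generators
  have hlift : ∀ i : Fin d, ∃ z : N, π ^ k i • z = 0 ∧
      N'.mkQ z = e.symm (DirectSum.lof W (Fin d) (fun i => W ⧸ W ∙ π ^ k i) i
        (Submodule.Quotient.mk 1)) := by
    intro i
    obtain ⟨z, hz⟩ := N'.mkQ_surjective (e.symm (DirectSum.lof W (Fin d) (fun i => W ⧸ W ∙ π ^ k i) i
        (Submodule.Quotient.mk 1)))
    have h1 : π ^ k i • z ∈ N' := by
      rw [← N'.ker_mkQ, LinearMap.mem_ker, map_smul, hz, ← map_smul, ← map_smul]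
      have : π ^ k i • (Submodule.Quotient.mk 1 : W ⧸ W ∙ π ^ k i) = 0 := by
        rw [← Submodule.Quotient.mk_smul, Submodule.Quotient.mk_eq_zero, smul_eq_mul, mul_one]
        exact Submodule.mem_span_singleton_self _
      rw [this, map_zero, map_zero]
    obtain ⟨y, hy, hzy⟩ := hpure _ _ h1
    refine ⟨z - y, ?_, ?_⟩
    · rw [smul_sub, hzy, sub_self]
    · rw [map_sub, hz]
      have : N'.mkQ y = 0 := by rwa [← LinearMap.mem_ker, N'.ker_mkQ]
      rw [this, sub_zero]
  choose z hz0 hz using hlift
  let s' : (DirectSum (Fin d) fun i => W ⧸ W ∙ π ^ k i) →ₗ[W] N :=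
    DirectSum.toModule W (Fin d) N fun i =>
      (W ∙ π ^ k i).liftQ (LinearMap.toSpanSingleton W N (z i)) (by
        rw [Submodule.span_singleton_le_iff_mem, LinearMap.mem_ker, LinearMap.toSpanSingleton_apply,
          hz0])
  have hs' : ∀ x, N'.mkQ (s' x) = e.symm x := by
    have : N'.mkQ ∘ₗ s' = e.symm.toLinearMap := by
      apply DirectSum.linearMap_ext
      intro i
      apply Submodule.linearMap_qext
      ext
      simp only [LinearMap.comp_apply, s', DirectSum.toModule_lof, Submodule.mkQ_apply,
        Submodule.liftQ_apply, LinearMap.toSpanSingleton_apply, one_smul]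
      exact hz i
    intro x
    exact LinearMap.congr_fun this x
  let s : (N ⧸ N') →ₗ[W] N := s' ∘ₗ e.toLinearMap
  have hs : ∀ x, N'.mkQ (s x) = x := fun x => by
    simp [s, hs']
  refine ⟨LinearMap.range s, ?_, ?_⟩
  · rw [Submodule.disjoint_def]
    rintro _ hx ⟨y, rfl⟩
    have h1 : N'.mkQ (s y) = 0 := by rwa [← LinearMap.mem_ker, N'.ker_mkQ]
    rw [hs] at h1
    rw [h1, map_zero]
  · rw [codisjoint_iff, eq_top_iff]
    intro x _
    have h1 : x - s (N'.mkQ x) ∈ N' := by
      have h3 : N'.mkQ (x - s (N'.mkQ x)) = 0 := by rw [map_sub, hs, sub_self]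
      exact (Submodule.Quotient.mk_eq_zero N').mp h3
    have h2 : x = (x - s (N'.mkQ x)) + s (N'.mkQ x) := by abel
    rw [h2]
    exact Submodule.add_mem_sup h1 ⟨_, rfl⟩

end Pure

section Socle

variable {W : Type u} [CommRing W] [IsLocalRing W]
  {N : Type v} [AddCommGroup N] [Module W N]

/-- A nonzero module of finite length over a local ring has a nonzero element killed by a given
element of the maximal ideal. -/
lemma exists_ne_zero_smul_eq_zero (hN : IsFiniteLength W N) {π : W}
    (hπ : π ∈ IsLocalRing.maximalIdeal W) (h : ∀ x : N, π • x = 0 → x = 0) (x : N) : x = 0 := by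
  obtain ⟨hNo, hAr⟩ := isFiniteLength_iff_isNoetherian_isArtinian.mp hN
  let f : N →ₗ[W] N := LinearMap.lsmul W N π
  have hinj : Function.Injective f := by
    rw [injective_iff_map_eq_zero]
    exact h
  have hsurj : Function.Surjective f := IsArtinian.surjective_of_injective_endomorphism f hinj
  have h1 : (⊤ : Submodule W N) ≤ IsLocalRing.maximalIdeal W • (⊤ : Submodule W N) := by
    intro y _
    obtain ⟨z, rfl⟩ := hsurj y
    exact Submodule.smul_mem_smul hπ trivial
  have h2 := Submodule.eq_bot_of_le_smul_of_le_jacobson_bot _ _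
    (IsNoetherian.noetherian (⊤ : Submodule W N)) h1
    (by rw [IsLocalRing.jacobson_eq_maximalIdeal ⊥ bot_ne_top])
  have : x ∈ (⊤ : Submodule W N) := trivial
  rw [h2, Submodule.mem_bot] at this
  exact this

lemma exists_pow_smul_eq_zero (hN : IsFiniteLength W N) {π : W}
    (hπ : π ∈ IsLocalRing.maximalIdeal W) (x : N) : ∃ n : ℕ, π ^ n • x = 0 := by
  obtain ⟨hNo, hAr⟩ := isFiniteLength_iff_isNoetherian_isArtinian.mp hN
  let f : N →ₗ[W] N := LinearMap.lsmul W N π
  -- the kernels of the powers stabilise
  obtain ⟨n, hn⟩ := monotone_stabilizes_iff_noetherian.mpr hNo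
    ⟨fun n => LinearMap.ker (f ^ n), fun a b hab => by
      intro y hy
      rw [LinearMap.mem_ker] at hy ⊢
      obtain ⟨c, rfl⟩ := Nat.exists_eq_add_of_le hab
      rw [add_comm, pow_add, Module.End.mul_apply, hy, map_zero]⟩
  have hpow : ∀ (m : ℕ) (y : N), (f ^ m) y = π ^ m • y := by
    intro m
    induction m with
    | zero => intro y; simp
    | succ m ih => intro y; rw [pow_succ', Module.End.mul_apply, ih, pow_succ', mul_smul]; rfl
  refine ⟨n, ?_⟩
  -- the image of `π ^ n` has no `π`-torsion
  have h1 : ∀ y : LinearMap.range (f ^ n), y = 0 := by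
    refine exists_ne_zero_smul_eq_zero (N := LinearMap.range (f ^ n))
      (isFiniteLength_iff_isNoetherian_isArtinian.mpr ⟨inferInstance, inferInstance⟩) hπ ?_
    rintro ⟨_, ⟨y, rfl⟩⟩ hy
    have hy' : π • (f ^ n) y = 0 := congrArg Subtype.val hy
    have h2 : y ∈ LinearMap.ker (f ^ (n + 1)) := by
      rw [LinearMap.mem_ker, hpow, pow_succ', mul_smul, ← hpow]
      exact hy'
    have h3 : LinearMap.ker (f ^ n) = LinearMap.ker (f ^ (n + 1)) := hn (n + 1) (Nat.le_succ n)
    rw [← h3, LinearMap.mem_ker] at h2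
    exact Subtype.ext h2
  have := congrArg Subtype.val (h1 ⟨(f ^ n) x, ⟨x, rfl⟩⟩)
  rw [← hpow]
  exact this

end Socle

section Main

variable {W : Type u} [CommRing W] [IsLocalRing W] {σ : W →+* W} [RingHomSurjective σ]

/-- The key injectivity: in a glued system the maps `α i` are injective. -/
theorem injective_alpha {π : W} (hπ : π ∈ IsLocalRing.maximalIdeal W) (r : ℕ)
    (N : ℕ → Type v) [∀ i, AddCommGroup (N i)] [∀ i, Module W (N i)]
    (hfl : ∀ i, IsFiniteLength W (N i))
    (α : ∀ i, N (i + 1) →ₗ[W] N i)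
    (φ : ∀ i, N i →ₛₗ[σ] N 0)
    (hsurj : ∀ m : N 0, ∃ y : (i : ℕ) → N i, (∀ i, r < i → y i = 0) ∧
      (Finset.range (r + 1)).sum (fun i => φ i (y i)) = m)
    (hker : ∀ y : (i : ℕ) → N i, (∀ i, r < i → y i = 0) →
      (Finset.range (r + 1)).sum (fun i => φ i (y i)) = 0 →
        ∃ z : (i : ℕ) → N (i + 1), (∀ i, r ≤ i → z i = 0) ∧
          y 0 = α 0 (z 0) ∧ ∀ i, y (i + 1) = α (i + 1) (z (i + 1)) - π • z i)
    (i : ℕ) (hi : i < r) : Function.Injective (α i) := by
  classical
  -- extension by zero
  let E : ((j : Fin r) → N (j + 1)) →ₗ[W] ((j : ℕ) → N (j + 1)) :=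
    { toFun := fun z j => if h : j < r then z ⟨j, h⟩ else 0
      map_add' := by
        intro z z'
        funext j
        by_cases h : j < r
        · simp [h]
        · simp [h]
      map_smul' := by
        intro c z
        funext j
        by_cases h : j < r
        · simp [h]
        · simp [h] }
  let D : ((j : ℕ) → N (j + 1)) →ₗ[W] ((j : ℕ) → N j) :=
    { toFun := fun z j => match j with
        | 0 => α 0 (z 0)
        | j + 1 => α (j + 1) (z (j + 1)) - π • z j
      map_add' := by
        intro z z'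
        funext j
        cases j with
        | zero => simp
        | succ j => simp [smul_add]; abel
      map_smul' := by
        intro c z
        funext j
        cases j with
        | zero => simp
        | succ j => simp [smul_sub, smul_comm c π] }
  let res : ((j : ℕ) → N j) →ₗ[W] ((j : Fin (r + 1)) → N j) :=
    { toFun := fun y j => y j
      map_add' := fun _ _ => rfl
      map_smul' := fun _ _ => rfl }
  let ι : ((j : Fin r) → N (j + 1)) →ₗ[W] ((j : Fin (r + 1)) → N j) := res ∘ₗ D ∘ₗ E
  let Φ : ((j : Fin (r + 1)) → N j) →ₛₗ[σ] N 0 :=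
    { toFun := fun y => ∑ j : Fin (r + 1), φ j (y j)
      map_add' := by
        intro y y'
        simp [Finset.sum_add_distrib]
      map_smul' := by
        intro c y
        rw [Finset.smul_sum]
        refine Finset.sum_congr rfl fun j _ => ?_
        exact LinearMap.map_smulₛₗ (φ j) c (y j) }
  have hΦsurj : Function.Surjective Φ := by
    intro m
    obtain ⟨y, _, hy⟩ := hsurj m
    refine ⟨fun j => y j, ?_⟩
    rw [← hy, Finset.sum_range]
    rfl
  have hkerι : LinearMap.ker Φ ≤ LinearMap.range ι := by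
    intro y hy
    rw [LinearMap.mem_ker] at hy
    obtain ⟨z, hz0, hz1, hz2⟩ := hker (fun j => if h : j < r + 1 then y ⟨j, h⟩ else 0)
      (fun j hj => dif_neg (by omega)) (by
        rw [Finset.sum_range]
        rw [← hy]
        refine Finset.sum_congr rfl fun j _ => ?_
        rw [dif_pos j.2])
    refine ⟨fun j => z j, ?_⟩
    have hE : E (fun j => z j) = z := by
      funext j
      by_cases h : j < r
      · simp [E, h]
      · simp only [E, LinearMap.coe_mk, AddHom.coe_mk, dif_neg h]
        exact (hz0 j (by omega)).symm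
    change res (D (E fun j => z j)) = y
    rw [hE]
    funext ⟨j, hj⟩
    cases j with
    | zero =>
      rw [dif_pos hj] at hz1
      exact hz1.symm
    | succ j =>
      have := hz2 j
      rw [dif_pos hj] at this
      exact this.symm
  -- length count
  have hT : Module.length W ((j : Fin (r + 1)) → N j) = ∑ j : Fin (r + 1), Module.length W (N j) :=
    Module.length_pi_of_fintype (R := W) (M := fun j : Fin (r + 1) => N j)
  have hU : Module.length W ((j : Fin r) → N (j + 1)) = ∑ j : Fin r, Module.length W (N (j + 1)) :=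
    Module.length_pi_of_fintype (R := W) (M := fun j : Fin r => N (j + 1))
  have hTU : Module.length W ((j : Fin (r + 1)) → N j) = Module.length W (N 0) + Module.length W ((j : Fin r) → N (j + 1)) := by
    rw [hT, hU, Fin.sum_univ_succ]
    rfl
  have hfin : ∀ j, Module.length W (N j) ≠ ⊤ := fun j => Module.length_ne_top_iff.mpr (hfl j)
  have hUfin : Module.length W ((j : Fin r) → N (j + 1)) ≠ ⊤ := by
    rw [hU]
    exact WithTop.sum_ne_top.mpr fun j _ => hfin _
  have h1 : Module.length W ((j : Fin (r + 1)) → N j) = Module.length W (LinearMap.ker Φ) + Module.length W (N 0) := by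
    rw [Module.length_eq_add_of_exact (LinearMap.ker Φ).subtype (LinearMap.ker Φ).mkQ
      (Submodule.subtype_injective _) (Submodule.mkQ_surjective _)
      (LinearMap.exact_subtype_mkQ _)]
    congr 1
    refine length_eq_of_semilinear σ ((LinearMap.ker Φ).liftQ Φ le_rfl) ⟨?_, ?_⟩
    · rw [← LinearMap.ker_eq_bot, Submodule.ker_liftQ_eq_bot _ _ _ le_rfl]
    · intro m
      obtain ⟨y, hy⟩ := hΦsurj m
      exact ⟨(LinearMap.ker Φ).mkQ y, by simpa using hy⟩
  have h2 : Module.length W (LinearMap.ker Φ) ≤ Module.length W (LinearMap.range ι) :=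
    Module.length_le_of_injective (Submodule.inclusion hkerι) (Submodule.inclusion_injective _)
  have h3 : Module.length W ((j : Fin r) → N (j + 1)) = Module.length W (LinearMap.ker ι) + Module.length W (LinearMap.range ι) :=
    Module.length_eq_add_of_exact (LinearMap.ker ι).subtype ι.rangeRestrict
      (Submodule.subtype_injective _) ι.surjective_rangeRestrict (by
        rw [LinearMap.exact_iff, LinearMap.ker_rangeRestrict, Submodule.range_subtype])
  have h4 : Module.length W (LinearMap.ker ι) = 0 := by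
    have h5 : Module.length W ((j : Fin r) → N (j + 1)) ≤ Module.length W (LinearMap.range ι) := by
      have h6 : Module.length W (N 0) + Module.length W ((j : Fin r) → N (j + 1)) ≤
          Module.length W (N 0) + Module.length W (LinearMap.range ι) := by
        rw [← hTU, h1, add_comm]
        gcongr
      exact (ENat.add_le_add_iff_left (hfin 0)).mp h6
    rw [h3] at h5 hUfin
    have h7 : Module.length W (LinearMap.range ι) ≠ ⊤ := fun h => hUfin (by rw [h, add_top])
    have h8 : Module.length W (LinearMap.ker ι) + Module.length W (LinearMap.range ι) ≤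
        0 + Module.length W (LinearMap.range ι) := by rwa [zero_add]
    have := (ENat.add_le_add_iff_right h7).mp h8
    exact le_antisymm this bot_le
  have hinj : Function.Injective ι := by
    rw [← LinearMap.ker_eq_bot]
    rw [Module.length_eq_zero_iff] at h4
    exact (Submodule.subsingleton_iff_eq_bot).mp h4
  -- conclusion: a nonzero kernel of `α i` would contain a nonzero element killed by `π`
  rw [injective_iff_map_eq_zero]
  intro x hx
  have hK : IsFiniteLength W (LinearMap.ker (α i)) := by
    obtain ⟨hNo, hAr⟩ := isFiniteLength_iff_isNoetherian_isArtinian.mp (hfl (i + 1))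
    exact isFiniteLength_iff_isNoetherian_isArtinian.mpr ⟨inferInstance, inferInstance⟩
  have h9 : ∀ y : LinearMap.ker (α i), y = 0 := by
    refine exists_ne_zero_smul_eq_zero hK hπ ?_
    rintro ⟨y, hy⟩ hy'
    rw [LinearMap.mem_ker] at hy
    have hy'' : π • y = 0 := congrArg Subtype.val hy'
    let z : ((j : Fin r) → N (j + 1)) := Pi.single (⟨i, hi⟩ : Fin r) y
    have hz : ι z = 0 := by
      have hEz : ∀ j, E z j = if h : j = i then (h ▸ y : N (j + 1)) else 0 := by
        intro j
        simp only [E, LinearMap.coe_mk, AddHom.coe_mk]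
        by_cases hj : j = i
        · subst hj
          simp [hi, z]
        · rw [dif_neg hj]
          by_cases hjr : j < r
          · rw [dif_pos hjr]
            exact Pi.single_eq_of_ne (fun h => hj (congrArg Fin.val h)) _
          · rw [dif_neg hjr]
      funext ⟨j, hj⟩
      change D (E z) j = 0
      have hα : ∀ j, α j (E z j) = 0 := by
        intro j
        rw [hEz]
        by_cases hj : j = i
        · subst hj
          rw [dif_pos rfl]
          exact hy
        · rw [dif_neg hj, map_zero]
      have hp : ∀ j, π • (E z j) = 0 := by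
        intro j
        rw [hEz]
        by_cases hj : j = i
        · subst hj
          rw [dif_pos rfl]
          exact hy''
        · rw [dif_neg hj, smul_zero]
      cases j with
      | zero => exact hα 0
      | succ j =>
        change α (j + 1) (E z (j + 1)) - π • E z j = 0
        rw [hα, hp, sub_zero]
    have hz0 : z = 0 := hinj (by rw [hz, map_zero])
    have := congrFun hz0 ⟨i, hi⟩
    simp only [z, Pi.single_eq_same] at this
    exact Subtype.ext this
  exact congrArg Subtype.val (h9 ⟨x, hx⟩)

end Main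

section Final

variable {W : Type u} [CommRing W] [IsDomain W] [IsDiscreteValuationRing W] {σ : W →+* W}
  [RingHomSurjective σ]

/-- In a glued system over a discrete valuation ring the images of the `α i` are pure. -/
theorem pure_range_alpha {π : W} (hπ : Irreducible π) (hσ : σ π = π) (r : ℕ)
    (N : ℕ → Type v) [∀ i, AddCommGroup (N i)] [∀ i, Module W (N i)]
    (hfl : ∀ i, IsFiniteLength W (N i))
    (α : ∀ i, N (i + 1) →ₗ[W] N i)
    (φ : ∀ i, N i →ₛₗ[σ] N 0)
    (hsurj : ∀ m : N 0, ∃ y : (i : ℕ) → N i, (∀ i, r < i → y i = 0) ∧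
      (Finset.range (r + 1)).sum (fun i => φ i (y i)) = m)
    (hker : ∀ y : (i : ℕ) → N i, (∀ i, r < i → y i = 0) →
      (Finset.range (r + 1)).sum (fun i => φ i (y i)) = 0 →
        ∃ z : (i : ℕ) → N (i + 1), (∀ i, r ≤ i → z i = 0) ∧
          y 0 = α 0 (z 0) ∧ ∀ i, y (i + 1) = α (i + 1) (z (i + 1)) - π • z i)
    (i : ℕ) (hi : i < r) (j : ℕ) (x : N i) (hx : π ^ j • x ∈ LinearMap.range (α i)) :
    ∃ y ∈ LinearMap.range (α i), π ^ j • x = π ^ j • y := by
  classical
  have hπm : π ∈ IsLocalRing.maximalIdeal W := by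
    rw [IsLocalRing.mem_maximalIdeal]
    exact hπ.not_isUnit
  let P : ∀ i, Submodule W (N i) := fun i => LinearMap.range (LinearMap.lsmul W (N i) (π ^ j))
  have hα : ∀ i, P (i + 1) ≤ (P i).comap (α i) := by
    rintro i _ ⟨y, rfl⟩
    exact ⟨α i y, by simp⟩
  have hφ : ∀ i, P i ≤ (P 0).comap (φ i) := by
    rintro i _ ⟨y, rfl⟩
    exact ⟨φ i y, by simp [hσ, map_pow]⟩
  have key := injective_alpha (σ := σ) hπm r (fun i => N i ⧸ P i)
    (fun i => by
      obtain ⟨hNo, hAr⟩ := isFiniteLength_iff_isNoetherian_isArtinian.mp (hfl i)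
      exact isFiniteLength_iff_isNoetherian_isArtinian.mpr ⟨inferInstance, inferInstance⟩)
    (fun i => (P (i + 1)).mapQ (P i) (α i) (hα i))
    (fun i => (P i).mapQ (P 0) (φ i) (hφ i)) ?_ ?_ i hi
  · obtain ⟨y, hy⟩ := hx
    have h1 : (P (i + 1)).mapQ (P i) (α i) (hα i) ((P (i + 1)).mkQ y) = 0 := by
      rw [Submodule.mkQ_apply, Submodule.mapQ_apply, Submodule.Quotient.mk_eq_zero, hy]
      exact ⟨x, rfl⟩
    have h2 : (P (i + 1)).mkQ y = 0 := key (by rw [h1, map_zero])
    rw [Submodule.mkQ_apply, Submodule.Quotient.mk_eq_zero] at h2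
    obtain ⟨y', rfl⟩ := h2
    refine ⟨α i y', ⟨y', rfl⟩, ?_⟩
    rw [← hy, LinearMap.lsmul_apply, map_smul]
  · intro m
    obtain ⟨m, rfl⟩ := (P 0).mkQ_surjective m
    obtain ⟨y, hy0, hy⟩ := hsurj m
    refine ⟨fun i => (P i).mkQ (y i), fun i hi => by simp only; rw [hy0 i hi, map_zero], ?_⟩
    rw [← hy, map_sum]
    exact Finset.sum_congr rfl fun i _ => Submodule.mapQ_apply _ _ _ _
  · intro y hy0 hy
    have hlift : ∀ i, ∃ t : N i, (P i).mkQ t = y i ∧ (r < i → t = 0) := by
      intro i
      by_cases h : r < i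
      · exact ⟨0, by rw [hy0 i h, map_zero], fun _ => rfl⟩
      · obtain ⟨t, ht⟩ := (P i).mkQ_surjective (y i)
        exact ⟨t, ht, fun h' => absurd h' h⟩
    choose t ht ht0 using hlift
    have h1 : (P 0).mkQ (∑ i ∈ Finset.range (r + 1), φ i (t i)) = 0 := by
      rw [← hy, map_sum]
      refine Finset.sum_congr rfl fun i _ => ?_
      rw [← ht i]
      exact (Submodule.mapQ_apply _ _ _ _).symm
    rw [Submodule.mkQ_apply, Submodule.Quotient.mk_eq_zero] at h1
    obtain ⟨m, hm⟩ := h1
    obtain ⟨s, hs0, hs⟩ := hsurj m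
    obtain ⟨z, hz0, hz1, hz2⟩ := hker (fun i => t i - π ^ j • s i)
      (fun i hi => by rw [ht0 i hi, hs0 i hi, smul_zero, sub_zero]) (by
        have : ∀ i, φ i (t i - π ^ j • s i) = φ i (t i) - π ^ j • φ i (s i) := by
          intro i
          rw [map_sub, LinearMap.map_smulₛₗ, map_pow, hσ]
        simp_rw [this]
        rw [Finset.sum_sub_distrib, ← Finset.smul_sum, hs, ← hm, LinearMap.lsmul_apply, sub_self])
    have hmk : ∀ i, y i = (P i).mkQ (t i - π ^ j • s i) := by
      intro i
      rw [map_sub, ht i]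
      have : (P i).mkQ (π ^ j • s i) = 0 := by
        rw [Submodule.mkQ_apply, Submodule.Quotient.mk_eq_zero]
        exact ⟨s i, rfl⟩
      rw [this, sub_zero]
    refine ⟨fun i => (P (i + 1)).mkQ (z i), fun i hi => by simp only; rw [hz0 i hi, map_zero], ?_, ?_⟩
    · rw [hmk 0, hz1]
      exact (Submodule.mapQ_apply _ _ _ _).symm
    · intro i
      rw [hmk (i + 1), hz2 i, map_sub, map_smul]
      congr 1

theorem main {π : W} (hπ : Irreducible π) (hσ : σ π = π) (r : ℕ)
    (N : ℕ → Type v) [∀ i, AddCommGroup (N i)] [∀ i, Module W (N i)]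
    (hfl : ∀ i, IsFiniteLength W (N i))
    (α : ∀ i, N (i + 1) →ₗ[W] N i)
    (φ : ∀ i, N i →ₛₗ[σ] N 0)
    (hsurj : ∀ m : N 0, ∃ y : (i : ℕ) → N i, (∀ i, r < i → y i = 0) ∧
      (Finset.range (r + 1)).sum (fun i => φ i (y i)) = m)
    (hker : ∀ y : (i : ℕ) → N i, (∀ i, r < i → y i = 0) →
      (Finset.range (r + 1)).sum (fun i => φ i (y i)) = 0 →
        ∃ z : (i : ℕ) → N (i + 1), (∀ i, r ≤ i → z i = 0) ∧
          y 0 = α 0 (z 0) ∧ ∀ i, y (i + 1) = α (i + 1) (z (i + 1)) - π • z i)
    (i : ℕ) (hi : i < r) :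
    Function.Injective (α i) ∧
      ∃ Q : Submodule W (N i), IsCompl (LinearMap.range (α i)) Q := by
  have hπm : π ∈ IsLocalRing.maximalIdeal W := by
    rw [IsLocalRing.mem_maximalIdeal]
    exact hπ.not_isUnit
  refine ⟨injective_alpha hπm r N hfl α φ hsurj hker i hi, ?_⟩
  obtain ⟨hNo, hAr⟩ := isFiniteLength_iff_isNoetherian_isArtinian.mp (hfl i)
  exact exists_isCompl_of_pure hπ (exists_pow_smul_eq_zero (hfl i) hπm) _
    (fun j x hx => pure_range_alpha hπ hσ r N hfl α φ hsurj hker i hi j x hx)

end Final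

end K955.Glued
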